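import Cfsg.Agent.H417.JThreeCols
import Cfsg.Agent.H417.JThreeEnum
import Cfsg.Agent.H417.JThreeDeg

/-!
# The rational columns of `J₃` with the class representatives (helper469, after helper417)

`hyp_row` : `H417.JThreeDeg.hyp` together with the values `Row` at the representatives.
-/

set_option autoImplicit false

namespace Cfsg.Agent.H469.S8.Col

open Cfsg Subgroup
open scoped ComplexConjugate
open Cfsg.Agent.J3Type.CodeTab Cfsg.Agent.J3Type.CodeFacts Cfsg.Agent.J3Type.CodeGroup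
open Cfsg.Agent.J3Type.CharTools Cfsg.Agent.Characters.Core Cfsg.Agent.J3Type.CodeAvg
open Cfsg.Agent.J3Type.CharRow Cfsg.Agent.J3Type.CharTwo Cfsg.Agent.J3Type.CharComb
open Cfsg.Agent.J3Type.CharOrder
open Cfsg.Agent.J2Type.Model Cfsg.Agent.J2Type.CStruct Cfsg.Agent.J3Type.OneClass

universe u

section Coded

variable {G : Type u} [Group G] {t : G} {D : ℕ → G}

/-- The columns of the character table at the elements of even order (the proof is the one of
`CharOrder.card_of_coded`). -/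
theorem exists_cols_row [Finite G] [Fintype (IrrCharacter G)] (h : Coded t D)
    (hall : ∀ g : G, orderOf g = 2 → IsConj t g) {j : ℕ} (hN : Nat.card G = 1920 * j) :
    ∃ (s : ℂ) (V : IrrCharacter G → Fin 8 → ℤ), s ^ 2 = 5 ∧ (∀ χ : IrrCharacter G, Row t D s (Nat.card G) χ (V χ)) ∧
      Cols j (fun a χ => V χ a) (⟨1, isIrr_one⟩ : IrrCharacter G) := by
  classical
  have hmod := mod_eq h hall hN
  obtain ⟨ζ, hζ, hs⟩ := exists_sqrt_five
  choose V hV using fun χ : IrrCharacter G => exists_row h hall hζ hs χ.2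
  set s := ζ + ζ ^ 4 - ζ ^ 2 - ζ ^ 3 with hsd
  have hs0 : s ≠ 0 := by
    intro h0
    rw [h0] at hs
    norm_num at hs
  have hj0 : (j : ℂ) ≠ 0 := Nat.cast_ne_zero.2 (by omega)
  -- the columns in terms of the class representatives
  let u : Fin 8 → ℂ := ![1, 1, 1, 1, 1, 1, 1, s]
  have hu0 : ∀ a, u a ≠ 0 := by
    intro a
    fin_cases a
    · exact one_ne_zero
    · exact one_ne_zero
    · exact one_ne_zero
    · exact one_ne_zero
    · exact one_ne_zero
    · exact one_ne_zero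
    · exact one_ne_zero
    · exact hs0
  have hcol : ∀ (a : Fin 8) (χ : IrrCharacter G), ((V χ a : ℤ) : ℂ) * u a
      = ∑ a', KK a a' * (χ : G → ℂ) (y t D a') := by
    intro a χ
    have r := hV χ
    rw [Fin.sum_univ_eight]
    fin_cases a
    · have := r.e0
      simp [KK, u, y, this]
    · have := r.e1
      simp [KK, u, y, this]
    · have := r.e2
      simp [KK, u, y, this]
    · have := r.e3
      simp [KK, u, y, this]
    · have := r.e4
      simp [KK, u, y, this]
    · have := r.e5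
      simp [KK, u, y, this]
    · have := r.e6
      simp [KK, u, y, ← this]
    · have := r.e7
      simp [KK, u, y, ← this]
      ring
  have hprod : ∀ a b : Fin 8, ((∑ χ : IrrCharacter G, V χ a * V χ b : ℤ) : ℂ) * (u a * u b)
      = ∑ a', KK a a' * KK b a' * (cc j a' : ℂ) := by
    intro a b
    push_cast
    rw [Finset.sum_mul]
    have h1 : ∀ χ : IrrCharacter G, ((V χ a : ℤ) : ℂ) * ((V χ b : ℤ) : ℂ) * (u a * u b)
        = ∑ a', ∑ b', KK a a' * KK b b' * ((χ : G → ℂ) (y t D a') * (χ : G → ℂ) (y t D b')) := by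
      intro χ
      have : ((V χ a : ℤ) : ℂ) * ((V χ b : ℤ) : ℂ) * (u a * u b)
        = (((V χ a : ℤ) : ℂ) * u a) * (((V χ b : ℤ) : ℂ) * u b) := by ring
      rw [this, hcol, hcol, Finset.sum_mul_sum]
      refine Finset.sum_congr rfl fun a' _ => Finset.sum_congr rfl fun b' _ => ?_
      ring
    rw [Finset.sum_congr rfl fun χ _ => h1 χ, Finset.sum_comm]
    refine Finset.sum_congr rfl fun a' _ => ?_
    rw [Finset.sum_comm]
    have h2 : ∀ b', ∑ χ : IrrCharacter G, KK a a' * KK b b' *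
        ((χ : G → ℂ) (y t D a') * (χ : G → ℂ) (y t D b'))
        = if a' = b' then KK a a' * KK b b' * (cc j a' : ℂ) else 0 := by
      intro b'
      rw [← Finset.mul_sum, orth h hall hN a' b']
      split_ifs <;> ring
    rw [Finset.sum_congr rfl fun b' _ => h2 b']
    simp
  have horth : ∀ a b : Fin 8, ∑ χ : IrrCharacter G, V χ a * V χ b = if a = b then dd j a else 0 := by
    intro a b
    have h1 := hprod a b
    rw [Fin.sum_univ_eight] at h1
    by_cases hab : a = b
    · subst hab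
      rw [if_pos rfl]
      have h2 : ((∑ χ : IrrCharacter G, V χ a * V χ a : ℤ) : ℂ) = ((dd j a : ℤ) : ℂ) := by
        have h3 : u a * u a ≠ 0 := mul_ne_zero (hu0 a) (hu0 a)
        apply mul_right_cancel₀ h3
        rw [h1]
        clear h1 h3 hprod hcol
        fin_cases a
        · simp [KK, u, cc, dd]
        · simp [KK, u, cc, dd]
        · simp [KK, u, cc, dd]
        · simp [KK, u, cc, dd]
        · simp [KK, u, cc, dd]
        · simp [KK, u, cc, dd]
        · simp [KK, u, cc, dd]; norm_num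
        · simp [KK, u, cc, dd]
          linear_combination (-4 : ℂ) * hs
      exact_mod_cast h2
    · rw [if_neg hab]
      have h2 : ((∑ χ : IrrCharacter G, V χ a * V χ b : ℤ) : ℂ) = 0 := by
        have h3 : u a * u b ≠ 0 := mul_ne_zero (hu0 a) (hu0 b)
        apply mul_right_cancel₀ h3
        rw [h1, zero_mul]
        clear h1 h3 hprod hcol
        revert hab
        fin_cases a <;> fin_cases b <;> simp [KK, cc]
      exact_mod_cast h2
  -- the trivial character
  let e : IrrCharacter G := ⟨1, isIrr_one⟩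
  have he : ∀ a, V e a = ee a := by
    intro a
    have r := hV e
    have hone : ∀ g : G, (e : G → ℂ) g = 1 := fun g => rfl
    fin_cases a
    · have := r.e0; rw [hone] at this; exact_mod_cast this.symm
    · have := r.e1; rw [hone] at this; exact_mod_cast this.symm
    · have := r.e2; rw [hone] at this; exact_mod_cast this.symm
    · have := r.e3; rw [hone] at this; exact_mod_cast this.symm
    · have := r.e4; rw [hone] at this; exact_mod_cast this.symm
    · have := r.e5; rw [hone] at this; exact_mod_cast this.symm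
    · have := r.e6
      rw [hone, hone] at this
      have h2 : ((V e 6 : ℤ) : ℂ) = ((2 : ℤ) : ℂ) := by rw [← this]; norm_num
      exact_mod_cast h2
    · have := r.e7
      rw [hone, hone, sub_self] at this
      have h2 := (mul_eq_zero.1 this.symm).resolve_right hs0
      exact_mod_cast h2
  have hcl : ∑ χ : IrrCharacter G, ((3 * V χ 1 - 5 * V χ 2 - 30 * V χ 4 - 40 * V χ 5 - 24 * V χ 6 : ℤ) : ℚ)
      / 120 * ((V χ 1 : ℤ) : ℚ) ^ 2 / ((V χ 0 : ℤ) : ℚ) = -15200 / (j : ℚ) := by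
    have p1 := class_sum h hall hN 1 (by decide)
    have p2 := class_sum h hall hN 2 (by decide)
    have p4 := class_sum h hall hN 4 (by decide)
    have p5 := class_sum h hall hN 5 (by decide)
    have p6 := class_sum h hall hN 6 (by decide)
    have p7 := class_sum h hall hN 7 (by decide)
    have n1 : ((np 1 : ℕ) : ℂ) = 130 := by rw [show np 1 = 130 from rfl]; norm_num
    have n2 : ((np 2 : ℕ) : ℂ) = 28 := by rw [show np 2 = 28 from rfl]; norm_num
    have n4 : ((np 4 : ℕ) : ℂ) = 8 := by rw [show np 4 = 8 from rfl]; norm_num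
    have n5 : ((np 5 : ℕ) : ℂ) = 12 := by rw [show np 5 = 12 from rfl]; norm_num
    have n6 : ((np 6 : ℕ) : ℂ) = 10 := by rw [show np 6 = 10 from rfl]; norm_num
    have n7 : ((np 7 : ℕ) : ℂ) = 10 := by rw [show np 7 = 10 from rfl]; norm_num
    rw [n1] at p1
    rw [n2] at p2
    rw [n4] at p4
    rw [n5] at p5
    rw [n6] at p6
    rw [n7] at p7
    have h1 : ∑ χ : IrrCharacter G, ((3 * V χ 1 - 5 * V χ 2 - 30 * V χ 4 - 40 * V χ 5 - 24 * V χ 6 : ℤ) : ℂ)
      / 120 * ((V χ 1 : ℤ) : ℂ) ^ 2 / ((V χ 0 : ℤ) : ℂ) = -15200 / (j : ℂ) := by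
      have h2 : ∀ χ : IrrCharacter G,
          ((3 * V χ 1 - 5 * V χ 2 - 30 * V χ 4 - 40 * V χ 5 - 24 * V χ 6 : ℤ) : ℂ)
          / 120 * ((V χ 1 : ℤ) : ℂ) ^ 2 / ((V χ 0 : ℤ) : ℂ)
          = (1 / 40 : ℂ) * ((χ : G → ℂ) t ^ 2 * (χ : G → ℂ) (y t D 1) / (χ : G → ℂ) 1)
          + ((-1 / 24 : ℂ) * ((χ : G → ℂ) t ^ 2 * (χ : G → ℂ) (y t D 2) / (χ : G → ℂ) 1)
          + ((-1 / 4 : ℂ) * ((χ : G → ℂ) t ^ 2 * (χ : G → ℂ) (y t D 4) / (χ : G → ℂ) 1)
          + ((-1 / 3 : ℂ) * ((χ : G → ℂ) t ^ 2 * (χ : G → ℂ) (y t D 5) / (χ : G → ℂ) 1)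
          + ((-1 / 5 : ℂ) * ((χ : G → ℂ) t ^ 2 * (χ : G → ℂ) (y t D 6) / (χ : G → ℂ) 1)
          + (-1 / 5 : ℂ) * ((χ : G → ℂ) t ^ 2 * (χ : G → ℂ) (y t D 7) / (χ : G → ℂ) 1))))) := by
        intro χ
        have r := hV χ
        have y1 : (χ : G → ℂ) (y t D 1) = V χ 1 := r.e1
        have y2 : (χ : G → ℂ) (y t D 2) = V χ 2 := r.e2
        have y4 : (χ : G → ℂ) (y t D 4) = V χ 4 := r.e4
        have y5 : (χ : G → ℂ) (y t D 5) = V χ 5 := r.e5
        have y6 : (χ : G → ℂ) (y t D 6) + (χ : G → ℂ) (y t D 7) = V χ 6 := r.e6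
        rw [y1, y2, y4, y5, r.e0, r.e1]
        push_cast
        linear_combination (-(1 / 5 : ℂ) * ((V χ 1 : ℤ) : ℂ) ^ 2 / ((V χ 0 : ℤ) : ℂ)) * (-y6)
      rw [Finset.sum_congr rfl fun χ _ => h2 χ, Finset.sum_add_distrib, Finset.sum_add_distrib,
        Finset.sum_add_distrib, Finset.sum_add_distrib, Finset.sum_add_distrib, ← Finset.mul_sum,
        ← Finset.mul_sum, ← Finset.mul_sum, ← Finset.mul_sum, ← Finset.mul_sum, ← Finset.mul_sum,
        p1, p2, p4, p5, p6, p7]
      field_simp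
      norm_num
    have h3 : ((∑ χ : IrrCharacter G, ((3 * V χ 1 - 5 * V χ 2 - 30 * V χ 4 - 40 * V χ 5 - 24 * V χ 6 : ℤ) : ℚ)
      / 120 * ((V χ 1 : ℤ) : ℚ) ^ 2 / ((V χ 0 : ℤ) : ℚ) : ℚ) : ℂ) = ((-15200 / (j : ℚ) : ℚ) : ℂ) := by
      push_cast
      push_cast at h1
      exact h1
    exact_mod_cast h3
  have hC : Cols j (fun a χ => V χ a) e :=
    { hj := hmod
      horth := horth
      he := he
      hpos := fun χ => (hV χ).hpos
      hdvd := fun χ => by
        have := (hV χ).hdvd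
        rw [hN] at this
        push_cast at this
        exact this
      c1 := fun χ => (hV χ).c1
      c2 := fun χ => (hV χ).c2
      c3 := fun χ => (hV χ).c3
      c4 := fun χ => (hV χ).c4
      c5 := fun χ => (hV χ).c5
      c6 := fun χ => (hV χ).c6
      c7 := fun χ => (hV χ).c7
      c8 := fun χ => (hV χ).c8
      hcl := hcl }
  exact ⟨s, V, hs, hV, hC⟩

end Coded

section K

open Cfsg.Agent.M23Order.Base Cfsg.Agent.H417.JThreeLP

variable {K : Type u} [Group K]

/-- the rational columns with their values -/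
theorem hyp_row [Finite K] [Fintype (IrrCharacter K)] (h : Spor.IsoJ3 K) :
    ∃ (t : K) (D : ℕ → K) (s : ℂ) (V : IrrCharacter K → Fin 8 → ℤ), s ^ 2 = 5 ∧
      (∀ χ : IrrCharacter K, Row t D s (Nat.card K) χ (V χ)) ∧ (∀ χ, V χ 0 = dg χ) ∧ Hyp V := by
  classical
  obtain ⟨t, D, hD, hall⟩ := H417.JThreeCols.exists_coded_iso h
  obtain ⟨s, V, hs5, hR, hC⟩ := exists_cols_row hD hall (j := 26163) (by rw [(H898.J3Cent.base h).2.1])
  have hV : ∀ χ : IrrCharacter K, (χ : K → ℂ) 1 = ((V χ 0 : ℤ) : ℂ) := fun χ => (hR χ).e0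
  have hs := (H898.J3Cent.base h).1
  have hcard := (H898.J3Cent.base h).2.1
  have hdg : ∀ χ, V χ 0 = dg χ := by
    intro χ
    have h1 := hV χ
    rw [dg_eq] at h1
    exact_mod_cast h1.symm
  have f17 : Fact (Nat.Prime 17) := ⟨by norm_num⟩
  have f19 : Fact (Nat.Prime 19) := ⟨by norm_num⟩
  obtain ⟨P, hP, ⟨DD⟩⟩ := H417.BlockCount.exists_SC (G := K) 17 (by norm_num) (by rw [hcard]; norm_num)
    (by rw [hcard]; norm_num) (fun y hy => (H898.J3Cent.seventeen h hy).1) (e := 8) (t := 2)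
    (by rw [hcard]) (by norm_num)
  obtain ⟨Q, hQ, ⟨E⟩⟩ := H417.BlockCount.exists_SC (G := K) 19 (by norm_num) (by rw [hcard]; norm_num)
    (by rw [hcard]; norm_num) (fun y hy => H898.J3Cent.card_nineteen h hy) (e := 9) (t := 2)
    (by rw [hcard]) (by norm_num)
  have hperf : commutator K = ⊤ := MTwelve.SmallDegree.commutator_eq_top_of_card (by rw [hcard]; norm_num)
  have hone : ∀ χ : IrrCharacter K, dg χ = 1 → χ = ⟨1, isIrr_one⟩ := fun χ hχ =>
    Subtype.ext (coe_eq_one_of_dg hperf hχ)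
  refine ⟨t, D, s, V, hs5, hR, hdg, ?_, ?_, ?_, ?_, ?_, ?_, ?_⟩
  · intro χ
    refine H417.JThreeEnum.mem_vecs (d := dg χ) (hdg χ) (by rw [← hcard]; exact dg_dvd χ)
      (H417.BlockCount.mod_cases DD (by norm_num) (by norm_num) (by norm_num) χ)
      (H417.BlockCount.mod_cases E (by norm_num) (by norm_num) (by norm_num) χ)
      (hC.c1 χ) (hC.c2 χ) (hC.c3 χ) (hC.c4 χ) (hC.c5 χ) (hC.c6 χ) (hC.c7 χ) (hC.c8 χ) ?_
      (Nat.pos_of_ne_zero (dg_ne_zero χ)) ?_
    · have h1 := bessel (fun a χ => V χ a) (dd 26163) hC.dd_pos hC.horth χ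
      rw [Fin.sum_univ_eight] at h1
      simp only [dd] at h1
      have h2 : ((V χ 0 * V χ 0 + 26163 * (V χ 1 * V χ 1) + 523260 * (V χ 2 * V χ 2) + 2093040 * (V χ 3 * V χ 3)
        + 6279120 * (V χ 4 * V χ 4) + 4186080 * (V χ 5 * V χ 5) + 2511648 * (V χ 6 * V χ 6)
        + 12558240 * (V χ 7 * V χ 7) : ℤ) : ℚ) ≤ ((50232960 : ℤ) : ℚ) := by
        push_cast
        simp [Matrix.cons_val] at h1
        linarith
      have h3 : V χ 0 * V χ 0 + 26163 * (V χ 1 * V χ 1) + 523260 * (V χ 2 * V χ 2) + 2093040 * (V χ 3 * V χ 3)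
        + 6279120 * (V χ 4 * V χ 4) + 4186080 * (V χ 5 * V χ 5) + 2511648 * (V χ 6 * V χ 6)
        + 12558240 * (V χ 7 * V χ 7) ≤ 50232960 := by exact_mod_cast h2
      linarith
    · intro h1
      have h2 := hone χ h1
      subst h2
      funext a
      rw [show V ⟨1, isIrr_one⟩ a = ee a from hC.he a]
      fin_cases a <;> rfl
  · exact hC.horth
  · refine H417.JThreeDeg.num_eq V _ (fun χ => dg χ = 1) ?_ (n := 1) ?_
    · intro χ
      rw [hdg]
      simp
    · rw [Finset.card_eq_one]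
      refine ⟨⟨1, isIrr_one⟩, ?_⟩
      ext χ
      rw [Finset.mem_filter, Finset.mem_singleton]
      constructor
      · rintro ⟨-, h1⟩
        exact hone χ h1
      · rintro rfl
        exact ⟨Finset.mem_univ _, dg_of_eq (by simp)⟩
  · exact H417.JThreeDeg.num_eq V _ (fun χ => dg χ % 17 = 1 ∨ dg χ % 17 = 17 - 1) (fun χ => by rw [hdg]; simp; omega)
      (H417.BlockCount.card_one DD (by norm_num) (by norm_num) (by norm_num))
  · exact H417.JThreeDeg.num_eq V _ (fun χ => dg χ % 17 = 8 ∨ dg χ % 17 = 17 - 8) (fun χ => by rw [hdg]; simp; omega)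
      (H417.BlockCount.card_exc DD (by norm_num) (by norm_num) (by norm_num))
  · exact H417.JThreeDeg.num_eq V _ (fun χ => dg χ % 19 = 1 ∨ dg χ % 19 = 19 - 1) (fun χ => by rw [hdg]; simp; omega)
      (H417.BlockCount.card_one E (by norm_num) (by norm_num) (by norm_num))
  · exact H417.JThreeDeg.num_eq V _ (fun χ => dg χ % 19 = 9 ∨ dg χ % 19 = 19 - 9) (fun χ => by rw [hdg]; simp; omega)
      (H417.BlockCount.card_exc E (by norm_num) (by norm_num) (by norm_num))


end K

end Cfsg.Agent.H469.S8.Col
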