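import Cfsg.Agent.H469.S8.J3Srch
import Cfsg.Agent.H704.S8.Defs3

/-!
# S4908, `J₃` : the piece FROB (helper469)

The Frobenius group `17 : 8` of `J₃`; no proper subgroup containing one of its factors has an index dividing a degree of
`J₃` or `Aut J₃`.
-/

set_option autoImplicit false

namespace Cfsg.Agent.H469.S8

open Cfsg Cfsg.Spor Subgroup

universe v

variable {X : Type v} [Group X] [Finite X]

theorem arith_a : ∀ k ∈ Nat.divisors 16, k ∣ 2430 → 2430 / k % 17 ≠ 1 := by decide +kernel
theorem arith_b : ∀ k ∈ Nat.divisors 16, k ∣ 1215 → 1215 / k % 17 ≠ 1 := by decide +kernel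

/-- no subgroup of index 1216 or 2432 of `J₃` contains an element of order 17 -/
theorem no_seventeen (h : IsoJ3 X) {x : X} (hx : orderOf x = 17) {T : Subgroup X} (hxT : x ∈ T)
    (hT : T.index = 1216 ∨ T.index = 2432) : False := by
  have hcX := (H898.J3Cent.base h).2.1
  have hc := T.card_mul_index
  rw [hcX] at hc
  have hcT : Nat.card T = 17 * 2430 ∨ Nat.card T = 17 * 1215 := by
    rcases hT with h1 | h1 <;> rw [h1] at hc <;> omega
  have f17 : Fact (Nat.Prime 17) := ⟨by norm_num⟩
  let y : T := ⟨x, hxT⟩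
  have hy : orderOf y = 17 := by rw [← hx]; exact Subgroup.orderOf_mk x hxT
  have hcent : Nat.card (centralizer ({y} : Set T)) = 17 := by
    have h1 : (centralizer ({y} : Set T)).map T.subtype ≤ centralizer ({x} : Set X) := by
      rintro _ ⟨u, hu, rfl⟩
      rw [mem_centralizer_singleton_iff]
      have h2 : u * y = y * u := mem_centralizer_singleton_iff.1 hu
      exact congrArg Subtype.val h2
    have h2 := card_dvd_of_le h1
    rw [Subgroup.card_map_of_injective T.subtype_injective, (H898.J3Cent.seventeen h hx).1] at h2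
    have h3 : 17 ∣ Nat.card (centralizer ({y} : Set T)) := by
      have h4 : orderOf (⟨y, mem_centralizer_singleton_iff.2 rfl⟩ : centralizer ({y} : Set T)) = 17 := by
        rw [Subgroup.orderOf_mk, hy]
      rw [← h4]
      exact orderOf_dvd_natCard _
    exact Nat.dvd_antisymm h2 h3
  have hsq : ¬ 17 ^ 2 ∣ Nat.card T := by
    rcases hcT with h1 | h1 <;> rw [h1] <;> norm_num
  obtain ⟨n, k, hn, hk, h1, -⟩ := Cfsg.Agent.H836.Sylow.card_normalizer (G := T) (p := 17) (X := zpowers y) (by norm_num)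
    hsq (by rw [Nat.card_zpowers, hy])
  rw [H898.J3Cent.centralizer_zpowers, hcent] at h1
  have hk0 : 0 < k := Nat.pos_of_dvd_of_pos hk (by norm_num)
  have hkd : k ∈ Nat.divisors 16 := Nat.mem_divisors.2 ⟨by simpa using hk, by norm_num⟩
  rcases hcT with h2 | h2
  · have h3 : k * n = 2430 := by
      have h4 : 17 * (k * n) = 17 * 2430 := by rw [← mul_assoc, ← h1, h2]
      omega
    have h4 : 2430 / k = n := by
      rw [← h3]; exact Nat.mul_div_cancel_left n hk0
    exact arith_a k hkd ⟨n, h3.symm⟩ (by rw [h4, hn])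
  · have h3 : k * n = 1215 := by
      have h4 : 17 * (k * n) = 17 * 1215 := by rw [← mul_assoc, ← h1, h2]
      omega
    have h4 : 1215 / k = n := by
      rw [← h3]; exact Nat.mul_div_cancel_left n hk0
    exact arith_b k hkd ⟨n, h3.symm⟩ (by rw [h4, hn])

/-- **S4908, `J₃`, the piece FROB** -/
theorem frob_j3 (h : IsoJ3 X) (D : Set ℕ) (hD : H704.S8.Deg 2 X D) : H704.S8.FrobRow 2 D X := by
  have hcX := (H898.J3Cent.base h).2.1
  have f17 : Fact (Nat.Prime 17) := ⟨by norm_num⟩
  have f2 : Fact (Nat.Prime 2) := ⟨by norm_num⟩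
  obtain ⟨x, hx⟩ := exists_prime_orderOf_dvd_card' (G := X) 17 (by rw [hcX]; norm_num)
  obtain ⟨hC, hN⟩ := H898.J3Cent.seventeen h hx
  set P := zpowers x with hP
  set N := normalizer ((P : Subgroup X) : Set X) with hNdef
  have hcP : Nat.card P = 17 := by rw [hP, Nat.card_zpowers, hx]
  obtain ⟨Q', hQ'⟩ := Sylow.exists_subgroup_card_pow_prime (G := N) 2 (n := 3) (by rw [hN]; norm_num)
  have hcQ : Nat.card (Q'.map N.subtype) = 8 := by
    rw [Subgroup.card_map_of_injective N.subtype_injective, hQ']; norm_num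
  have hCx : ∀ u ∈ P, u ≠ 1 → Nat.card (centralizer ({u} : Set X)) = 17 := by
    intro u hu hu1
    have h1 : orderOf u = 17 := by
      have h2 : orderOf u ∣ 17 := by
        rw [← hcP, ← Subgroup.orderOf_mk u hu]
        exact orderOf_dvd_natCard _
      rcases (Nat.dvd_prime (by norm_num)).1 h2 with h3 | h3
      · exact absurd (orderOf_eq_one_iff.1 h3) hu1
      · exact h3
    exact (H898.J3Cent.seventeen h h1).1
  refine ⟨P, Q'.map N.subtype, by rw [hcP]; norm_num, ?_, ?_, ?_, ?_⟩
  · rintro _ ⟨u, -, rfl⟩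
    exact u.2
  · intro u hu g hg hgu
    by_contra hcon
    push Not at hcon
    have h1 : g ∈ centralizer ({u} : Set X) := mem_centralizer_singleton_iff.2 hgu
    have h2 : orderOf g ∣ 17 := by
      rw [← hCx u hu hcon.1, ← Subgroup.orderOf_mk g h1]
      exact orderOf_dvd_natCard _
    have h3 : orderOf g ∣ 8 := by
      rw [← hcQ, ← Subgroup.orderOf_mk g hg]
      exact orderOf_dvd_natCard _
    have h4 : orderOf g ∣ Nat.gcd 17 8 := Nat.dvd_gcd h2 h3
    rw [show Nat.gcd 17 8 = 1 by norm_num, Nat.dvd_one, orderOf_eq_one_iff] at h4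
    exact hcon.2 h4
  · intro hb
    rw [hb, Subgroup.card_bot] at hcQ
    norm_num at hcQ
  · intro T hT hPQ ⟨d, hd, hTd⟩
    exfalso
    have h1 := Srch.index_or h T hT (H306.SD.J.deg_sub h hD d hd) hTd
    rcases hPQ with h2 | h2
    · exact no_seventeen h hx (h2 (mem_zpowers x)) h1
    · have h3 := card_dvd_of_le h2
      rw [hcQ] at h3
      have hc := T.card_mul_index
      rw [hcX] at hc
      have hcT : Nat.card T = 17 * 2430 ∨ Nat.card T = 17 * 1215 := by
        rcases h1 with h4 | h4 <;> rw [h4] at hc <;> omega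
      rcases hcT with h4 | h4 <;> rw [h4] at h3 <;> norm_num at h3

end Cfsg.Agent.H469.S8
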