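import Cfsg.Agent.H898.J3Cent
import Cfsg.Agent.H55.JThreeOut
import Cfsg.Agent.H417.JThreeDeg
import Cfsg.Agent.Characters.GaloisBasic

/-!
# The outer automorphism of `J₃` moves the classes of elements of order 19 (helper469)

`trace_sq` : the trace of a square in characteristic two; `not_conj` : an element `x` of order 19 is not conjugate to its
image under the semilinear automorphism; `conj_four` : it is conjugate to its fourth power; `not_inv` : no character of
degree `≡ ± 9 (mod 19)` is invariant under all automorphisms.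
-/

set_option autoImplicit false
set_option linter.unusedSectionVars false

namespace Cfsg.Agent.H469.S8

open Cfsg Cfsg.Spor Cfsg.Agent.J3.Core Cfsg.Agent.J3.Elts Cfsg.Agent.J3.Nineteen Cfsg.Agent.J3.Simple
open Cfsg.Agent.H55.JThree Matrix Subgroup

universe u

section trace

variable {n : Type*} [Fintype n] [DecidableEq n] {F : Type*} [Field F]

/-- the trace of a square in characteristic two -/
theorem trace_sq (h2 : ∀ a : F, a + a = 0) (M : Matrix n n F) : (M * M).trace = ∑ i, M i i ^ 2 := by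
  have h1 : (M * M).trace = ∑ p : n × n, M p.1 p.2 * M p.2 p.1 := by
    rw [Fintype.sum_prod_type]
    rfl
  have h3 : ∑ p : n × n, (if p.1 = p.2 then 0 else M p.1 p.2 * M p.2 p.1) = 0 := by
    refine Finset.sum_involution (fun p _ => p.swap) ?_ ?_ ?_ ?_
    · rintro ⟨i, j⟩ -
      simp only [Prod.swap_prod_mk]
      by_cases hij : i = j
      · simp [hij]
      · rw [if_neg hij, if_neg (Ne.symm hij), mul_comm (M j i)]
        exact h2 _
    · rintro ⟨i, j⟩ - hne h
      apply hne
      have h5 : j = i := congrArg Prod.fst h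
      simp [h5]
    · intro p _
      exact Finset.mem_univ _
    · intro p _
      exact Prod.swap_swap p
  have h4 : ∀ p : n × n, M p.1 p.2 * M p.2 p.1 = (if p.1 = p.2 then 0 else M p.1 p.2 * M p.2 p.1) +
      (if p.1 = p.2 then M p.1 p.1 ^ 2 else 0) := by
    rintro ⟨i, j⟩
    by_cases hij : i = j
    · subst hij
      simp [pow_two]
    · simp [hij]
  rw [h1, Finset.sum_congr rfl fun p _ => h4 p, Finset.sum_add_distrib, h3, zero_add, Fintype.sum_prod_type]
  refine Finset.sum_congr rfl fun i _ => ?_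
  simp

end trace

section J3

variable {F : Type*} [Field F] [Fintype F] {ω : F}

theorem trace_mat_sq (H : Good ω) (y : threeJ3 F ω) : (mat ω (y ^ 2)).trace = (mat ω y).trace ^ 2 := by
  rw [pow_two y, map_mul, trace_sq H.add_self]
  exact (map_sum (frob H) _ _).symm

theorem trace_phi (hF : Fintype.card F = 4) (H : Good ω) (y : threeJ3 F ω) :
    (mat ω (phi hF H y)).trace = (mat ω y).trace ^ 2 := by
  rw [mat_phi]
  show ∑ z, phiM H (mat ω y) z z = frob H (∑ z, mat ω y z z)
  rw [map_sum]
  exact Equiv.sum_comp cjE (fun z => frob H (mat ω y z z))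

theorem trace_conj (y h : threeJ3 F ω) : (mat ω (h * y * h⁻¹)).trace = (mat ω y).trace := by
  rw [map_mul, map_mul, Matrix.trace_mul_cycle, ← map_mul, inv_mul_cancel, map_one, Matrix.one_mul]

/-- elements of order 19 with the same image are equal -/
theorem lift_eq (hF : Fintype.card F = 4) (H : Good ω) {a b : threeJ3 F ω} (ha : orderOf a = 19) (hb : orderOf b = 19)
    (h : (a : J3 F ω) = b) : a = b := by
  have hZ : a⁻¹ * b ∈ Subgroup.center (threeJ3 F ω) := QuotientGroup.eq.1 h
  set c := a⁻¹ * b with hc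
  have hb' : b = a * c := by rw [hc]; group
  have hcomm : Commute a c := (Subgroup.mem_center_iff.mp hZ a)
  have h3 : c ^ 3 = 1 := by
    have h1 : Nat.card (Subgroup.center (threeJ3 F ω)) = 3 := card_center hF H
    have h2 : (⟨c, hZ⟩ : Subgroup.center (threeJ3 F ω)) ^
        Nat.card (Subgroup.center (threeJ3 F ω)) = 1 := pow_card_eq_one'
    rw [h1] at h2
    exact congrArg Subtype.val h2
  have h19 : c ^ 19 = 1 := by
    have h4 := pow_orderOf_eq_one b
    rw [hb, hb', hcomm.mul_pow, ← ha, pow_orderOf_eq_one, one_mul, ha] at h4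
    exact h4
  have h5 : c = 1 := by
    have h6 : c ^ 19 = (c ^ 3) ^ 6 * c := by rw [← pow_mul, ← pow_succ]
    rw [h6, h3, one_pow, one_mul] at h19
    exact h19
  rw [hb', h5, mul_one]

/-- no eigenvalue one: the sum of the powers is zero -/
theorem sum_zero (hF : Fintype.card F = 4) (H : Good ω) {y : threeJ3 F ω} (hy : orderOf y = 19) :
    ∑ i ∈ Finset.range 19, mat ω y ^ i = 0 := by
  obtain ⟨G⟩ := exists_gens hF H
  apply Matrix.ext_of_mulVec_single
  intro i
  rw [Matrix.zero_mulVec]
  refine fix_nineteen hF H G hy ?_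
  rw [Matrix.mulVec_mulVec]
  congr 1
  have h1 := mul_geom_sum (mat ω y) 19
  rw [← map_pow, ← hy, pow_orderOf_eq_one, map_one, sub_self, hy] at h1
  have h2 : (mat ω y - 1) * ∑ i ∈ Finset.range 19, mat ω y ^ i = 0 := h1
  rw [sub_mul, one_mul, sub_eq_zero] at h2
  exact h2

/-- **an element of order 19 is not conjugate to its image under the semilinear automorphism** -/
theorem not_conj (hF : Fintype.card F = 4) (H : Good ω) {x : J3 F ω} (hx : orderOf x = 19) :
    ¬ IsConj x (Cfsg.Agent.H55.OutGen.centerQuot (phi hF H) x) := by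
  intro hc
  obtain ⟨y, hy, rfl⟩ := H898.J3Cent.lift_nineteen hF H hx
  obtain ⟨b, hb⟩ := isConj_iff.1 hc
  obtain ⟨k, rfl⟩ := QuotientGroup.mk_surjective b
  have h1 : k * y * k⁻¹ = phi hF H y := by
    refine lift_eq hF H ?_ ?_ hb
    · rw [← hy]
      exact orderOf_injective (MulAut.conj k).toMonoidHom (MulAut.conj k).injective y
    · rw [← hy]
      exact orderOf_injective (phi hF H).toMonoidHom (phi hF H).injective y
  have ht : (mat ω y).trace ^ 2 = (mat ω y).trace := by
    rw [← trace_phi hF H, ← h1, trace_conj]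
  have hpow : ∀ k : ℕ, (mat ω (y ^ (2 ^ k))).trace = (mat ω y).trace := by
    intro k
    induction k with
    | zero => rw [pow_zero, pow_one]
    | succ k ih => rw [pow_succ, pow_mul, trace_mat_sq H, ih, ht]
  have hall : ∀ i ∈ Finset.range 18, (mat ω y ^ (i + 1)).trace = (mat ω y).trace := by
    intro i hi
    have key : ∀ i ∈ Finset.range 18, ∃ k ∈ Finset.range 18, 2 ^ k % 19 = i + 1 := by decide
    obtain ⟨k, -, hk⟩ := key i hi
    rw [← map_pow, ← hk, ← hpow k]
    congr 2
    conv_lhs => rw [← hy]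
    exact pow_mod_orderOf y _
  have h2 := congrArg Matrix.trace (sum_zero hF H hy)
  rw [Matrix.trace_sum, Matrix.trace_zero, Finset.sum_range_succ', Finset.sum_congr rfl hall, Finset.sum_const,
    Finset.card_range, pow_zero, Matrix.trace_one] at h2
  have h3 : ∀ a : F, (18 : ℕ) • a = 0 := by
    intro a
    have : (18 : ℕ) • a = (9 : ℕ) • (a + a) := by rw [smul_add, ← add_smul]
    rw [this, H.add_self, smul_zero]
  have h4 : ((Fintype.card F9 : ℕ) : F) = 1 := by
    have h5 : Fintype.card F9 = 9 := by decide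
    rw [h5]
    have h6 := H.add_self (1 : F)
    have h7 : ((9 : ℕ) : F) = ((1 : F) + 1) + ((1 + 1) + ((1 + 1) + ((1 + 1) + 1))) := by
      push_cast
      ring
    rw [h7, h6]
    simp
  rw [h3, zero_add, h4] at h2
  exact one_ne_zero h2

end J3

section grp

variable {K : Type u} [Group K]

/-- there is an automorphism moving the classes of elements of order 19 -/
theorem exists_aut (h : IsoJ3 K) : ∃ α : MulAut K, ∀ x : K, orderOf x = 19 → ¬ IsConj x (α x) := by
  obtain ⟨F, _, _, ω, hF, hω, ⟨e⟩⟩ := h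
  have H := good_of_card hF hω
  set β : MulAut (J3 F ω) := Cfsg.Agent.H55.OutGen.centerQuot (phi hF H) with hβ
  refine ⟨(e.trans β).trans e.symm, fun x hx hc => ?_⟩
  refine not_conj hF H (x := e x) (by rw [← hx]; exact orderOf_injective e.toMonoidHom e.injective x) ?_
  have h1 : IsConj (e x) (e (e.symm (β (e x)))) := (e : K →* J3 F ω).map_isConj hc
  rwa [MulEquiv.apply_symm_apply] at h1

/-- the power of an automorphism on an element it maps to a power -/
theorem pow_apply {α : MulAut K} {x : K} {m : ℕ} (h : α x = x ^ m) (n : ℕ) : (α ^ n) x = x ^ (m ^ n) := by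
  induction n with
  | zero => simp
  | succ n ih => rw [pow_succ', MulAut.mul_apply, ih, map_pow, h, ← pow_mul, pow_succ']

/-- **an element of order 19 is conjugate to its fourth power** -/
theorem conj_four (h : IsoJ3 K) {x : K} (hx : orderOf x = 19) : IsConj x (x ^ 4) := by
  classical
  have hcK := (H898.J3Cent.base h).2.1
  have hfin : Finite K := Nat.finite_of_card_ne_zero (by rw [hcK]; norm_num)
  set P := zpowers x with hP
  set N := normalizer ((P : Subgroup K) : Set K) with hN
  let f : N →* MulAut P := normalizerMonoidHom P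
  have hk : f.ker = (centralizer ((P : Subgroup K) : Set K)).subgroupOf N := normalizerMonoidHom_ker _
  have hCN : centralizer ((P : Subgroup K) : Set K) ≤ N := centralizer_le_normalizer _
  have hcR : Nat.card f.range = 9 := by
    have h1 := f.ker.card_mul_index
    rw [Subgroup.index_ker, hk, Nat.card_congr (subgroupOfEquivOfLe hCN).toEquiv,
      H898.J3Cent.centralizer_zpowers, H898.J3Cent.card_nineteen h hx, H898.J3Cent.card_normalizer_nineteen h hx] at h1
    omega
  let X : P := ⟨x, mem_zpowers x⟩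
  have hX : orderOf X = 19 := by rw [← hx]; exact Subgroup.orderOf_mk x (mem_zpowers x)
  have hex : ∀ r : MulAut P, ∃ m : ZMod 19, r X = X ^ m.val := by
    intro r
    obtain ⟨k, hk⟩ := mem_powers_iff_mem_zpowers.2 (r X).2
    refine ⟨(k : ZMod 19), ?_⟩
    rw [ZMod.val_natCast]
    have h1 : X ^ (k % 19) = X ^ k := by
      conv_lhs => rw [← hX]
      exact pow_mod_orderOf X k
    rw [h1]
    exact Subtype.ext hk.symm
  choose g hg using hex
  have hinj : ∀ r s : MulAut P, g r = g s → r = s := by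
    intro r s hrs
    ext ⟨y, hy⟩
    obtain ⟨k, rfl⟩ := mem_zpowers_iff.1 hy
    have h1 : r X = s X := by rw [hg, hg, hrs]
    have h2 : (⟨x ^ k, hy⟩ : P) = X ^ k := rfl
    rw [h2, map_zpow, map_zpow, h1]
  have hnine : ∀ r : f.range, g r ^ 9 = 1 := by
    intro r
    have h1 : (r : MulAut P) ^ 9 = 1 := by
      have h2 : r ^ Nat.card f.range = 1 := pow_card_eq_one'
      rw [hcR] at h2
      exact congrArg Subtype.val h2
    have h3 := pow_apply (hg r) 9
    rw [h1, MulAut.one_apply] at h3
    have h4 : X ^ 1 = X ^ ((g r).val ^ 9) := by rw [pow_one]; exact h3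
    rw [pow_eq_pow_iff_modEq, hX] at h4
    have h5 := (ZMod.natCast_eq_natCast_iff _ _ _).2 h4
    push_cast at h5
    rw [ZMod.natCast_val, ZMod.cast_id] at h5
    exact h5.symm
  have : Fintype f.range := Fintype.ofFinite _
  let T : Finset (ZMod 19) := Finset.univ.filter fun m => m ^ 9 = 1
  have hT : T.card = 9 := by decide
  have hI : Finset.univ.image (fun r : f.range => g r) = T := by
    refine Finset.eq_of_subset_of_card_le ?_ ?_
    · intro m hm
      obtain ⟨r, -, rfl⟩ := Finset.mem_image.1 hm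
      exact Finset.mem_filter.2 ⟨Finset.mem_univ _, hnine r⟩
    · rw [hT, Finset.card_image_of_injective _ (fun r s hrs => Subtype.ext (hinj _ _ hrs)), Finset.card_univ,
        ← Nat.card_eq_fintype_card, hcR]
  have h4 : (4 : ZMod 19) ∈ T := by decide
  rw [← hI] at h4
  obtain ⟨⟨r, n, rfl⟩, -, hr⟩ := Finset.mem_image.1 h4
  refine isConj_iff.2 ⟨n, ?_⟩
  have h5 := hg (f n)
  have h6 : g (f n) = 4 := hr
  rw [h6] at h5
  have h7 : (f n X : K) = n * x * (n : K)⁻¹ := rfl
  rw [← h7, h5]
  rfl

open Cfsg.Agent.M23Order.Base in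
/-- **no character of degree `≡ ± 9 (mod 19)` is invariant** -/
theorem not_inv [Finite K] (h : IsoJ3 K) (θ : IrrCharacter K) (hθ : dg θ % 19 = 9 ∨ dg θ % 19 = 10)
    (hinv : ∀ (b : MulAut K) (s : K), (θ : K → ℂ) (b s) = (θ : K → ℂ) s) : False := by
  have hcard := (H898.J3Cent.base h).2.1
  have f19 : Fact (Nat.Prime 19) := ⟨by norm_num⟩
  obtain ⟨Q, hQ, ⟨E⟩⟩ := H417.BlockCount.exists_SC (G := K) 19 (by norm_num) (by rw [hcard]; norm_num)
    (by rw [hcard]; norm_num) (fun y hy => H898.J3Cent.card_nineteen h hy) (e := 9) (t := 2)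
    (by rw [hcard]) (by norm_num)
  have hX : θ ∈ E.X := by
    by_contra h1
    by_cases h2 : θ ∈ E.NE
    · have := H417.BlockCount.mod_NE' E (by norm_num) h2
      omega
    · have := H417.BlockCount.mod_out' E h2 h1
      omega
  let _ : Fintype (Q : Subgroup K) := Fintype.ofFinite _
  have hsum := E.sum_X hX
  -- `θ` is constant on `Q \ 1`
  have : Nontrivial (Q : Subgroup K) := by
    rw [← Finite.one_lt_card_iff_nontrivial, hQ]
    norm_num
  obtain ⟨x, hx⟩ := exists_ne (1 : (Q : Subgroup K))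
  have hord : ∀ y : (Q : Subgroup K), y ≠ 1 → orderOf (y : K) = 19 := by
    intro y hy
    have h1 : orderOf y ∣ 19 := (orderOf_dvd_natCard y).trans hQ.dvd
    rcases (Nat.dvd_prime (by norm_num)).1 h1 with h2 | h2
    · exact absurd (orderOf_eq_one_iff.1 h2) hy
    · rw [Subgroup.orderOf_coe]
      exact h2
  obtain ⟨α, hα⟩ := exists_aut h
  have hcl : ∀ a b : K, IsConj a b → (θ : K → ℂ) a = (θ : K → ℂ) b := by
    intro a b hab
    obtain ⟨c, rfl⟩ := isConj_iff.1 hab
    exact (hinv (MulAut.conj c) a).symm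
  have hsq : ¬ 19 ^ 2 ∣ Nat.card K := by rw [hcard]; norm_num
  have hxo := hord x hx
  obtain ⟨c, k, hck⟩ := J3.Fix.exists_conj_pow (p := 19) (by norm_num) hsq hxo
    (y := α (x : K)) ((orderOf_injective α.toMonoidHom α.injective (x : K)).trans hxo)
  have hpw : ∀ i : ℕ, i % 19 ≠ 0 → orderOf ((x : K) ^ i) = 19 := by
    intro i hi
    rw [orderOf_pow, hxo]
    have h1 : Nat.gcd 19 i = 1 := by
      rw [← Nat.coprime_iff_gcd_eq_one, Nat.Prime.coprime_iff_not_dvd (by norm_num)]
      intro h2
      exact hi (Nat.mod_eq_zero_of_dvd h2)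
    rw [h1]
  -- powers of four
  have hfour : ∀ (j i : ℕ), i % 19 ≠ 0 → IsConj ((x : K) ^ i) ((x : K) ^ (i * 4 ^ j)) := by
    intro j
    induction j with
    | zero =>
      intro i _
      rw [pow_zero, mul_one]
    | succ j ih =>
      intro i hi
      refine (ih i hi).trans ?_
      have h1 := conj_four h (hpw (i * 4 ^ j) ?_)
      · rw [← pow_mul, mul_assoc, ← pow_succ] at h1
        exact h1
      · intro h2
        have h3 : 19 ∣ i * 4 ^ j := Nat.dvd_of_mod_eq_zero h2
        rcases (Nat.Prime.dvd_mul (by norm_num)).1 h3 with h4 | h4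
        · exact hi (Nat.mod_eq_zero_of_dvd h4)
        · have h5 := (by norm_num : Nat.Prime 19).dvd_of_dvd_pow h4
          norm_num at h5
  have hmod : ∀ i j : ℕ, i % 19 = j % 19 → (x : K) ^ i = (x : K) ^ j := by
    intro i j hij
    rw [← pow_mod_orderOf (x : K) i, ← pow_mod_orderOf (x : K) j, hxo, hij]
  have hk0 : k % 19 ≠ 0 := by
    intro h1
    have h2 : (x : K) ^ k = 1 := by rw [hmod k 0 (by simpa using h1), pow_zero]
    rw [h2, mul_one, mul_inv_cancel] at hck
    have h3 : (x : K) = 1 := α.injective (by rw [hck, map_one])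
    exact hx (Subtype.ext h3)
  have hkn : ∀ j : ℕ, 4 ^ j % 19 ≠ k % 19 := by
    intro j hj
    apply hα (x : K) hxo
    have h1 := hfour j 1 (by norm_num)
    rw [pow_one, one_mul, hmod _ _ hj] at h1
    refine h1.trans (isConj_iff.2 ⟨c, hck.symm⟩)
  have hθk : (θ : K → ℂ) ((x : K) ^ k) = (θ : K → ℂ) x := by
    rw [← hinv α (x : K), hck]
    exact hcl _ _ (isConj_iff.2 ⟨c, rfl⟩)
  have hall : ∀ i : ℕ, i % 19 ≠ 0 → (θ : K → ℂ) ((x : K) ^ i) = (θ : K → ℂ) x := by
    intro i hi
    have key : ∀ k' ∈ Finset.range 19, k' ≠ 0 → (∀ j ∈ Finset.range 9, 4 ^ j % 19 ≠ k') → ∀ i' ∈ Finset.range 19, i' ≠ 0 →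
        ∃ j ∈ Finset.range 9, i' = 4 ^ j % 19 ∨ i' = k' * 4 ^ j % 19 := by decide +kernel
    obtain ⟨j, -, hj⟩ := key (k % 19) (Finset.mem_range.2 (Nat.mod_lt _ (by norm_num))) hk0 (fun j _ => hkn j) (i % 19)
      (Finset.mem_range.2 (Nat.mod_lt _ (by norm_num))) hi
    rcases hj with hj | hj
    · rw [hmod i (4 ^ j) hj]
      have h1 := hfour j 1 (by norm_num)
      rw [pow_one, one_mul] at h1
      exact (hcl _ _ h1).symm
    · rw [hmod i (k * 4 ^ j) (by rw [hj, Nat.mod_mul_mod])]
      exact (hcl _ _ (hfour j k hk0)).symm.trans hθk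
  have hconst : ∀ y : (Q : Subgroup K), y ≠ 1 → (θ : K → ℂ) y = (θ : K → ℂ) x := by
    intro y hy
    have h1 : zpowers x = ⊤ := by
      apply Subgroup.eq_top_of_card_eq
      rw [Nat.card_zpowers, ← Subgroup.orderOf_coe, hxo, hQ]
    have h2 : y ∈ zpowers x := by rw [h1]; trivial
    obtain ⟨i, rfl⟩ := mem_powers_iff_mem_zpowers.2 h2
    have h3 : i % 19 ≠ 0 := by
      intro h4
      apply hy
      apply Subtype.ext
      have h5 := hmod i 0 (by simpa using h4)
      rw [pow_zero] at h5
      exact h5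
    exact hall i h3
  have h1 := Cfsg.Agent.SmallSimple.TheoremBCor.sum_const_off (Q := (Q : Subgroup K)) (f := fun y => (θ : K → ℂ) y) (c := (θ : K → ℂ) x) hconst
  rw [hsum] at h1
  have h2 : (θ : K → ℂ) ((1 : (Q : Subgroup K)) : K) = dg θ := dg_eq θ
  obtain ⟨m, hm⟩ : ∃ m : ℤ, (θ : K → ℂ) x = m := by
    apply Cfsg.Agent.Characters.GaloisBasic.exists_int_of_rat (Cfsg.Agent.Characters.Core.isIrr_isCharacter θ.2)
    refine ⟨-(E.d : ℚ) / 2, ?_⟩
    have h3 : (18 : ℂ) * (θ : K → ℂ) x = -(E.d * 9) := by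
      have h4 := h1
      simp only [OneMemClass.coe_one] at h4 h2
      rw [h2, hQ] at h4
      push_cast at h4
      linear_combination -h4
    push_cast
    linear_combination h3 / 18
  have h3 : (18 : ℂ) * (m : ℂ) = -(E.d * 9) := by
    have h4 := h1
    simp only [OneMemClass.coe_one] at h4 h2
    rw [h2, hQ, hm] at h4
    push_cast at h4
    linear_combination -h4
  have h4 : (18 : ℤ) * m = -(E.d * 9) := by exact_mod_cast h3
  rcases E.d_mem with h5 | h5 <;> rw [h5] at h4 <;> omega

end grp

end Cfsg.Agent.H469.S8
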