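import Cfsg.Agent.H469.S8.J3Nt
import Cfsg.Agent.S2067
import Cfsg.Agent.H109.S8.AutDeg
import Cfsg.Agent.H704.S8.Defs3

/-!
# S4908, `J₃` : the piece OUT (helper469)

`deg_aut_inv` : a degree of `Aut X` (`|Out X| = 2`) is the degree of an invariant character of `X` or twice a degree of `X`;
`outB_j3` : the degrees of `J₃` which are `≡ ± 9 (mod 19)` are not degrees of `Aut J₃`.
-/

set_option autoImplicit false

namespace Cfsg.Agent.H469.S8

open Cfsg Cfsg.Spor Subgroup
open Cfsg.Agent.Characters.Core Cfsg.Agent.Characters.Clifford Cfsg.Agent.H424.DegTools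
open Cfsg.Agent.H704.S8 (OutB OutRow' OutRow3)

universe v

/-- the case of norm two -/
theorem deg_norm_two {G : Type v} [Group G] [Finite G] [Fintype G] (N : Subgroup G) [N.Normal] [Fintype N] {ψ : G → ℂ}
    (hψ : IsIrrCharacter G ψ) (h : classInner (fun n : N => ψ n) (fun n : N => ψ n) = 2) {e : ℕ} (h1 : ψ 1 = e) :
    ∃ f ∈ charDegrees N, e = 2 * f := by
  classical
  have := finite_irr (G := N)
  have := Fintype.ofFinite (IrrCharacter N)
  have hψN := isCharacter_restrict N (isIrr_isCharacter hψ)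
  obtain ⟨m, hm⟩ := exists_nat_comb hψN
  have hcoef : ∀ η : IrrCharacter N, classInner (fun n : N => ψ n) (η : N → ℂ) = m η := fun η => by
    rw [hm, classInner_sum_nsmul_irr]
  have hsq : ∑ η : IrrCharacter N, m η ^ 2 = 2 := by
    have h1 := classInner_sum_smul_sum_smul (G := N) (fun η => (m η : ℂ)) (fun η => (m η : ℂ))
    simp only [Nat.cast_smul_eq_nsmul] at h1
    rw [← hm, h] at h1
    have h3 : ((∑ η : IrrCharacter N, m η ^ 2 : ℕ) : ℂ) = ((2 : ℕ) : ℂ) := by
      push_cast
      rw [h1]
      refine Finset.sum_congr rfl fun η _ => ?_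
      rw [Complex.conj_natCast, sq]
    exact_mod_cast h3
  -- the multiplicities are at most one
  have hle : ∀ η, m η ≤ 1 := by
    intro η
    have h3 : m η ^ 2 ≤ ∑ η : IrrCharacter N, m η ^ 2 :=
      Finset.single_le_sum (f := fun η => m η ^ 2) (fun _ _ => Nat.zero_le _) (Finset.mem_univ η)
    rw [hsq] at h3
    by_contra hcon
    have h4 : 2 ^ 2 ≤ m η ^ 2 := Nat.pow_le_pow_left (by omega) 2
    omega
  have hsum : ∑ η : IrrCharacter N, m η = 2 := by
    rw [← hsq]
    refine Finset.sum_congr rfl fun η _ => ?_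
    have h3 := hle η
    interval_cases m η <;> rfl
  have hcard : (Finset.univ.filter fun η : IrrCharacter N => m η = 1).card = 2 := by
    rw [← hsum, Finset.card_filter]
    refine Finset.sum_congr rfl fun η _ => ?_
    have h3 := hle η
    interval_cases m η <;> simp
  obtain ⟨a, b, hab, hs⟩ := Finset.card_eq_two.1 hcard
  have ha : m a = 1 := by
    have : a ∈ Finset.univ.filter fun η : IrrCharacter N => m η = 1 := by rw [hs]; simp
    simpa using this
  have hb : m b = 1 := by
    have : b ∈ Finset.univ.filter fun η : IrrCharacter N => m η = 1 := by rw [hs]; simp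
    simpa using this
  have ha0 : classInner (fun n : N => ψ n) (a : N → ℂ) ≠ 0 := by rw [hcoef, ha]; simp
  have hb0 : classInner (fun n : N => ψ n) (b : N → ℂ) ≠ 0 := by rw [hcoef, hb]; simp
  obtain ⟨x, hx⟩ := exists_conj_of_constituents N hψ a.2 b.2 ha0 hb0
  obtain ⟨f, -, hf⟩ := isIrr_apply_one a.2
  have hbf : (b : N → ℂ) 1 = f := by
    rw [hx]
    simpa using hf
  refine ⟨f, mem_charDegrees.2 ⟨_, a.2, hf⟩, ?_⟩
  have h3 : (fun n : N => ψ n) = (a : N → ℂ) + (b : N → ℂ) := by
    rw [hm]
    rw [← Finset.sum_subset (Finset.subset_univ ({a, b} : Finset (IrrCharacter N)))]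
    · rw [Finset.sum_pair hab, ha, hb, one_smul, one_smul]
    · intro η _ hη
      have h4 : m η ≠ 1 := by
        intro h5
        apply hη
        rw [← hs]
        simpa using h5
      have h5 : m η = 0 := by
        have := hle η
        omega
      rw [h5, zero_smul]
  have h4 := congrFun h3 1
  simp only [OneMemClass.coe_one, Pi.add_apply, h1, hf, hbf] at h4
  have h5 : (e : ℂ) = ((2 * f : ℕ) : ℂ) := by
    rw [h4]
    push_cast
    ring
  exact_mod_cast h5

/-- degrees of `Aut X`, `|Out X| = 2`, with invariance -/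
theorem deg_aut_inv {X : Type v} [Group X] [Finite X] (hc : Subgroup.center X = ⊥)
    (h2 : (MulAut.conj : X →* MulAut X).range.index = 2) {e : ℕ} (he : e ∈ charDegrees (MulAut X)) :
    (∃ θ : IrrCharacter X, (θ : X → ℂ) 1 = e ∧ ∀ (b : MulAut X) (x : X), (θ : X → ℂ) (b x) = (θ : X → ℂ) x) ∨
      ∃ f ∈ charDegrees X, e = 2 * f := by
  classical
  have : Finite (MulAut X) := inferInstance
  have hn : (MulAut.conj : X →* MulAut X).range.Normal := by
    constructor
    rintro _ ⟨x, rfl⟩ g
    exact ⟨g x, by ext y; simp [MulAut.conj_apply]⟩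
  have hinj : Function.Injective (MulAut.conj : X →* MulAut X) := by
    rw [injective_iff_map_eq_one]
    intro a ha
    rw [← Subgroup.mem_bot, ← hc, Subgroup.mem_center_iff]
    intro y
    have h1 : MulAut.conj a y = y := by rw [ha]; rfl
    rw [MulAut.conj_apply, mul_inv_eq_iff_eq_mul] at h1
    exact h1.symm
  let E : X ≃* (MulAut.conj : X →* MulAut X).range := MonoidHom.ofInjective hinj
  obtain ⟨ψ, hψ, h1⟩ := mem_charDegrees.1 he
  let _ := Fintype.ofFinite (MulAut X)
  let _ := Fintype.ofFinite (MulAut.conj : X →* MulAut X).range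
  rcases Cfsg.Agent.CharactersDeep.PrimeIndex.norm_restrict_prime_index (MulAut.conj : X →* MulAut X).range
      Nat.prime_two h2 hψ with h | h
  · left
    have hirr := isIrr_of_classInner_self (isCharacter_restrict (MulAut.conj : X →* MulAut X).range
      (isIrr_isCharacter hψ)) h
    refine ⟨⟨_, isIrr_comp E.toMonoidHom E.surjective hirr⟩, ?_, fun b x => ?_⟩
    · show ψ ((E 1 : (MulAut.conj : X →* MulAut X).range) : MulAut X) = e
      rw [map_one, OneMemClass.coe_one, h1]
    · show ψ ((E (b x) : (MulAut.conj : X →* MulAut X).range) : MulAut X) =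
        ψ ((E x : (MulAut.conj : X →* MulAut X).range) : MulAut X)
      have h3 : ((E (b x) : (MulAut.conj : X →* MulAut X).range) : MulAut X) =
          b * ((E x : (MulAut.conj : X →* MulAut X).range) : MulAut X) * b⁻¹ := by
        show MulAut.conj (b x) = b * MulAut.conj x * b⁻¹
        ext y
        simp [MulAut.conj_apply]
      rw [h3]
      exact classFunction_apply_eq (isIrr_isClassFunction hψ) (isConj_iff.2 ⟨b⁻¹, by group⟩)
  · right
    obtain ⟨f, hf, h3⟩ := deg_norm_two _ hψ h h1
    exact ⟨f, by rwa [charDegrees_congr E], h3⟩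

section J3

variable {X : Type v} [Group X]

theorem center_j3 (h : IsoJ3 X) : Subgroup.center X = ⊥ := by
  have hs := (H898.J3Cent.base h).1
  have hcard := (H898.J3Cent.base h).2.1
  have : Finite X := Nat.finite_of_card_ne_zero (by rw [hcard]; norm_num)
  have hn : (Subgroup.center X).Normal := inferInstance
  rcases hn.eq_bot_or_eq_top with h | h
  · exact h
  · exfalso
    have hcomm : ∀ a b : X, a * b = b * a := fun a b => by
      have : b ∈ Subgroup.center X := by rw [h]; trivial
      exact Subgroup.mem_center_iff.1 this a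
    let _ : CommGroup X := { (inferInstance : Group X) with mul_comm := hcomm }
    have h1 : (Nat.card X).Prime := IsSimpleGroup.prime_card
    rw [hcard] at h1
    norm_num at h1

theorem index_j3 (h : IsoJ3 X) : (MulAut.conj : X →* MulAut X).range.index = 2 := by
  obtain ⟨F, _, _, ω, hF, hω, ⟨e⟩⟩ := h
  rw [← H55.OutGen.card_out_eq_index, H55.OutGen.card_out_congr e]
  exact S2067.result hF ω hω

open Cfsg.Agent.M23Order.Base in
/-- **a degree of `J₃` which is not a degree of `Aut J₃`** -/
theorem outB_j3 [Finite X] (h : IsoJ3 X) : OutB X := by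
  classical
  have hcard := (H898.J3Cent.base h).2.1
  have := finite_irr (G := X)
  let _ := Fintype.ofFinite (IrrCharacter X)
  have f19 : Fact (Nat.Prime 19) := ⟨by norm_num⟩
  obtain ⟨Q, hQ, ⟨E⟩⟩ := H417.BlockCount.exists_SC (G := X) 19 (by norm_num) (by rw [hcard]; norm_num)
    (by rw [hcard]; norm_num) (fun y hy => H898.J3Cent.card_nineteen h hy) (e := 9) (t := 2)
    (by rw [hcard]) (by norm_num)
  obtain ⟨Θ, hΘ⟩ : E.X.Nonempty := by rw [← Finset.card_ne_zero, E.card_X]; norm_num
  have hmod := H417.BlockCount.mod_X' E (by norm_num) (by norm_num) hΘ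
  have hdeg : ∀ f ∈ charDegrees X, f % 19 = 0 ∨ f % 19 = 1 ∨ f % 19 = 18 ∨ f % 19 = 9 ∨ f % 19 = 10 := by
    rintro f ⟨χ, rfl⟩
    have := H417.BlockCount.mod_cases E (by norm_num) (by norm_num) (by norm_num) χ
    unfold dg at this
    omega
  refine ⟨dg Θ, ⟨Θ, rfl⟩, fun hmem => ?_, fun f hf h2 => ?_⟩
  · rcases deg_aut_inv (center_j3 h) (index_j3 h) hmem with ⟨θ, h1, hinv⟩ | ⟨f, hf, h2⟩
    · refine not_inv h θ ?_ hinv
      have h3 : dg θ = dg Θ := dg_of_eq h1
      rw [h3]
      omega
    · have := hdeg f hf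
      omega
  · have := hdeg f hf
    omega

theorem out_j3' [Finite X] (h : IsoJ3 X) : OutRow' 2 X :=
  ⟨(index_j3 h).le, fun _ => Or.inl (outB_j3 h)⟩

/-- **S4908, `J₃`, the field OUT** -/
theorem out_j3 [Finite X] (h : IsoJ3 X) : OutRow3 2 X := (out_j3' h).final

end J3

end Cfsg.Agent.H469.S8
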