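import Cfsg.Agent.H469.S8.J3Out
import Cfsg.Agent.H786.S8.SocTwo

/-!
# S4908, `J₃` : the piece SOC2 (helper469)
-/

set_option autoImplicit false

namespace Cfsg.Agent.H469.S8

open Cfsg Cfsg.Spor

universe u v

/-- **S4908, `J₃`, the field SOC2** -/
theorem soc2_j3 {X : Type v} [Group X] [Finite X] (h : IsoJ3 X) (D : Set ℕ) (hD : H704.S8.Deg 2 X D) :
    H704.S8.Soc2.{u} D := by
  refine H786.S8.soc2_of_card (a := 2) (b := 3) hD (index_j3 h).le (H898.J3Cent.base h).2.1 ?_
  intro p hp hd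
  have h1 : p ∣ 50232960 * 2 := by
    rw [mul_comm]
    exact (dvd_pow_self p two_ne_zero).trans hd
  have h2 : p ∣ 2 ∨ p ∣ 50232960 := by
    rcases hp.dvd_mul.1 h1 with h3 | h3
    · exact Or.inr h3
    · exact Or.inl h3
  rcases h2 with h3 | h3
  · exact Or.inl ((Nat.prime_dvd_prime_iff_eq hp Nat.prime_two).1 h3)
  · rcases H898.J3Cent.prime_dvd_card hp h3 with rfl | rfl | rfl | rfl | rfl
    · exact Or.inl rfl
    · exact Or.inr rfl
    · norm_num at hd
    · norm_num at hd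
    · norm_num at hd

end Cfsg.Agent.H469.S8
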