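import Cfsg.Agent.H469.S8.J3Cols
import Cfsg.Agent.H306.SD.JDeg
import Cfsg.Agent.Blocks.PElements

/-!
# The indices of subgroups of `J₃` which divide degrees of `J₃` or `Aut J₃` (helper469)

`go` : search through the possible permutation characters (rational columns of helper417 / helper306);
`index_or` : the index of a proper subgroup of `J₃` dividing a degree is 1216 or 2432.
-/

set_option autoImplicit false
set_option maxRecDepth 100000

namespace Cfsg.Agent.H469.S8.Srch

open Cfsg Cfsg.Agent.Characters.Core Cfsg.Agent.H417.JThreeLP Cfsg.Agent.J3Type.CharRow Cfsg.Agent.M23Order.Base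

/-- add `k` times the row `r` -/
def addK (k : ℕ) (r v : List ℤ) : List ℤ := List.zipWith (fun a b => a + k * b) v r

/-- impossible values of a permutation character -/
def bad (v : List ℤ) : Bool :=
  decide (v.getD 1 0 < 0) || decide (v.getD 2 0 < 0) || decide (v.getD 3 0 < 0) || decide (v.getD 4 0 < 0) ||
    decide (v.getD 5 0 < 0) || decide (v.getD 7 0 ≠ 0)

/-- all nonnegative combinations of the rows of degree `m` lead to bad values -/
def go : List (List ℤ) → ℕ → List ℤ → Bool
  | [], m, v => m != 0 || bad v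
  | r :: rs, m, v =>
    (List.range (m / (r.getD 0 0).toNat + 1)).all fun k => go rs (m - k * (r.getD 0 0).toNat) (addK k r v)

/-- the nontrivial rows -/
def rows : List (List ℤ) := [
  [3078, -10, 2, -1, 0, -1, 0, 0],
  [2754, -14, -2, 1, 0, 1, 2, 0],
  [2432, 0, 0, 0, 0, 0, 0, 0],
  [1938, 2, -2, -1, 0, 1, -1, 1],
  [1938, 2, -2, -1, 0, 1, -1, -1],
  [1920, 0, 0, 0, 0, 0, 0, 0],
  [1615, 15, -1, 3, -1, -1, 0, 0],
  [1215, 15, 3, 0, 1, 0, 0, 0],
  [1140, 20, -4, -1, 0, -1, 0, 0],
  [816, -16, 0, 2, 0, 0, -2, 0],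
  [646, -10, 2, -1, 0, -1, 0, 0],
  [324, 4, 4, 1, 0, 1, -2, 0],
  [323, 3, 3, 0, -1, 0, 1, 1],
  [323, 3, 3, 0, -1, 0, 1, -1],
  [85, 5, 1, -1, -1, 1, 0, 0]]

/-- the trivial row -/
def row1 : List ℤ := [1, 1, 1, 1, 1, 1, 2, 0]

/-- the degrees -/
def dl : List ℕ := [1, 85, 170, 323, 324, 646, 816, 1140, 1215, 1292, 1615, 1920, 1938, 2430, 2432, 2754, 3078, 3840,
  3876]

/-- the test of an index -/
def tst (n : ℕ) : Bool :=
  Nat.ble n 1 || Nat.beq n 1216 || Nat.beq n 2432 || !(Nat.beq (50232960 % n) 0) || !(dl.any fun d => Nat.beq (d % n) 0) ||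
    go rows (n - 1) row1

theorem tst_all : ((List.range 3877).all fun n => tst n) = true := by decide +kernel

theorem fn_addK {k : ℕ} {r v : List ℤ} (hr : r.length = 8) (hv : v.length = 8) (i : Fin 8) :
    fn (addK k r v) i = fn v i + k * fn r i := by
  have h1 : (i : ℕ) < v.length := by rw [hv]; exact i.2
  have h2 : (i : ℕ) < r.length := by rw [hr]; exact i.2
  simp only [fn, addK, List.getD_eq_getElem?_getD, List.getElem?_zipWith, List.getElem?_eq_getElem h1,
    List.getElem?_eq_getElem h2, Option.getD_some]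

theorem length_addK {k : ℕ} {r v : List ℤ} (hr : r.length = 8) (hv : v.length = 8) : (addK k r v).length = 8 := by
  rw [addK, List.length_zipWith, hr, hv]; rfl

theorem go_sound {ι : Type*} (V : ι → Fin 8 → ℤ) (a : ι → ℕ) : ∀ (rs : List (List ℤ)) (s : Finset ι) (m : ℕ)
    (v : List ℤ), v.length = 8 → (∀ r ∈ rs, r.length = 8 ∧ 0 < r.getD 0 0) → (∀ χ ∈ s, ∃ l ∈ rs, V χ = fn l) →
    (∑ χ ∈ s, (a χ : ℤ) * V χ 0 = m) → go rs m v = true →
    ∃ w : List ℤ, bad w = true ∧ ∀ i : Fin 8, fn w i = fn v i + ∑ χ ∈ s, (a χ : ℤ) * V χ i := by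
  classical
  intro rs
  induction rs with
  | nil =>
    intro s m v _ _ hs hm hgo
    have hs0 : s = ∅ := by
      rw [Finset.eq_empty_iff_forall_notMem]
      intro χ hχ
      obtain ⟨l, hl, -⟩ := hs χ hχ
      exact List.not_mem_nil hl
    subst hs0
    rw [Finset.sum_empty] at hm
    have hm0 : m = 0 := by exact_mod_cast hm.symm
    subst hm0
    refine ⟨v, ?_, fun i => by rw [Finset.sum_empty, add_zero]⟩
    simpa [go] using hgo
  | cons r rs ih =>
    intro s m v hv hr hs hm hgo
    obtain ⟨hr8, hr0⟩ := hr r (List.mem_cons_self ..)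
    set s1 := s.filter fun χ => V χ = fn r with hs1
    set s2 := s.filter fun χ => ¬ V χ = fn r with hs2
    set k := ∑ χ ∈ s1, a χ with hk
    have hsum1 : ∀ i : Fin 8, ∑ χ ∈ s1, (a χ : ℤ) * V χ i = k * fn r i := by
      intro i
      rw [hk]
      push_cast
      rw [Finset.sum_mul]
      refine Finset.sum_congr rfl fun χ hχ => ?_
      rw [(Finset.mem_filter.1 hχ).2]
    have hsplit : ∀ i : Fin 8, ∑ χ ∈ s, (a χ : ℤ) * V χ i = k * fn r i + ∑ χ ∈ s2, (a χ : ℤ) * V χ i := by
      intro i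
      rw [← hsum1, hs1, hs2, Finset.sum_filter_add_sum_filter_not]
    have hs2' : ∀ χ ∈ s2, ∃ l ∈ rs, V χ = fn l := by
      intro χ hχ
      obtain ⟨h1, h2⟩ := Finset.mem_filter.1 hχ
      obtain ⟨l, hl, hV⟩ := hs χ h1
      rcases List.mem_cons.1 hl with rfl | hl
      · exact absurd hV h2
      · exact ⟨l, hl, hV⟩
    have hnn : 0 ≤ ∑ χ ∈ s2, (a χ : ℤ) * V χ 0 := by
      refine Finset.sum_nonneg fun χ hχ => ?_
      obtain ⟨l, hl, hV⟩ := hs2' χ hχ
      rw [hV]
      exact mul_nonneg (by positivity) (hr l (List.mem_cons_of_mem _ hl)).2.le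
    set d := (r.getD 0 0).toNat with hd
    have hd' : fn r 0 = d := by
      rw [hd, Int.toNat_of_nonneg hr0.le]
      rfl
    have hd0 : 0 < d := by
      have : (0 : ℤ) < d := by rw [← hd']; exact hr0
      exact_mod_cast this
    have h1 := hsplit 0
    rw [hm, hd'] at h1
    have hle : k * d ≤ m := by
      have : ((k * d : ℕ) : ℤ) ≤ m := by push_cast; linarith
      exact_mod_cast this
    have hk2 : k ∈ List.range (m / d + 1) := by
      rw [List.mem_range]
      exact Nat.lt_succ_of_le ((Nat.le_div_iff_mul_le hd0).2 hle)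
    have h2 : go rs (m - k * d) (addK k r v) = true := by
      have h3 := List.all_eq_true.1 hgo k hk2
      exact h3
    obtain ⟨w, hw1, hw2⟩ := ih s2 (m - k * d) (addK k r v) (length_addK hr8 hv)
      (fun r' hr' => hr r' (List.mem_cons_of_mem _ hr')) hs2' (by
        rw [Nat.cast_sub hle]
        push_cast
        linarith) h2
    refine ⟨w, hw1, fun i => ?_⟩
    rw [hw2, fn_addK hr8 hv, hsplit]
    ring

universe u

variable {G : Type u} [Group G] [Finite G]

/-- the permutation character on the cosets -/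
theorem exists_mult [Fintype (IrrCharacter G)] (T : Subgroup G) :
    ∃ m : IrrCharacter G → ℕ, (∀ g : G, (Nat.card (MulAction.fixedBy (G ⧸ T) g) : ℂ) =
      ∑ χ : IrrCharacter G, (m χ : ℂ) * (χ : G → ℂ) g) ∧ m ⟨1, isIrr_one⟩ = 1 := by
  classical
  let _ := Fintype.ofFinite G
  have hc := Cfsg.Agent.Blocks.PElements.isCharacter_fixedBy (G := G) (X := G ⧸ T)
  obtain ⟨m, hm⟩ := exists_nat_comb hc
  refine ⟨m, fun g => ?_, ?_⟩
  · have h1 := congrFun hm g
    rw [Finset.sum_apply] at h1
    rw [h1]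
    refine Finset.sum_congr rfl fun χ _ => ?_
    rw [Pi.smul_apply, nsmul_eq_mul]
  · have h1 := classInner_sum_nsmul_irr m (⟨1, isIrr_one⟩ : IrrCharacter G)
    rw [← hm] at h1
    rw [classInner_def] at h1
    have h2 : ∑ g : G, (Nat.card (MulAction.fixedBy (G ⧸ T) g) : ℂ) *
        (starRingEnd ℂ) (((⟨1, isIrr_one⟩ : IrrCharacter G) : G → ℂ) g) = Nat.card G := by
      have h3 := MulAction.sum_card_fixedBy_eq_card_orbits_mul_card_group G (G ⧸ T)
      have h4 : Fintype.card (Quotient (MulAction.orbitRel G (G ⧸ T))) = 1 := by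
        rw [Fintype.card_eq_one_iff]
        refine ⟨Quotient.mk'' ((1 : G) : G ⧸ T), ?_⟩
        intro q
        induction q using Quotient.inductionOn' with
        | h x =>
          apply Quotient.sound'
          rw [MulAction.orbitRel_apply]
          exact MulAction.mem_orbit_iff.2 (MulAction.exists_smul_eq G _ _)
      rw [h4, one_mul] at h3
      have h5 : ∀ g : G, (Nat.card (MulAction.fixedBy (G ⧸ T) g) : ℂ) *
          (starRingEnd ℂ) (((⟨1, isIrr_one⟩ : IrrCharacter G) : G → ℂ) g) =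
          (Fintype.card (MulAction.fixedBy (G ⧸ T) g) : ℂ) := by
        intro g
        show _ * (starRingEnd ℂ) 1 = _
        rw [map_one, mul_one, Nat.card_eq_fintype_card]
      rw [Finset.sum_congr rfl fun g _ => h5 g, Nat.card_eq_fintype_card, ← h3]
      push_cast
      rfl
    rw [h2, inv_mul_cancel₀ (by exact_mod_cast Nat.card_pos.ne')] at h1
    exact_mod_cast h1.symm

section J3

variable {K : Type u} [Group K]

theorem nat_sq_five {a : ℤ} {v : ℤ} {s : ℂ} (hs : s ^ 2 = 5) (h : (a : ℂ) = v * s) : v = 0 := by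
  have h1 : ((a ^ 2 : ℤ) : ℂ) = ((5 * v ^ 2 : ℤ) : ℂ) := by
    push_cast
    rw [h, mul_pow, hs]
    ring
  have h2 : a ^ 2 = 5 * v ^ 2 := by exact_mod_cast h1
  by_contra hv
  have h3 : Irrational (Real.sqrt 5) := by
    have := Nat.Prime.irrational_sqrt (p := 5) (by norm_num)
    simpa using this
  apply h3
  refine ⟨|(a : ℚ) / v|, ?_⟩
  have hv' : (v : ℝ) ≠ 0 := by exact_mod_cast hv
  have h4 : ((a : ℝ) / v) ^ 2 = 5 := by
    rw [div_pow, div_eq_iff (pow_ne_zero 2 hv')]
    exact_mod_cast h2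
  push_cast
  rw [← h4, Real.sqrt_sq_eq_abs]

/-- **the index of a proper subgroup of `J₃` which divides a degree is 1216 or 2432** -/
theorem index_or [Finite K] (h : Spor.IsoJ3 K) (T : Subgroup K) (hT : T ≠ ⊤) {d : ℕ} (hd : d ∈ dl) (hTd : T.index ∣ d) :
    T.index = 1216 ∨ T.index = 2432 := by
  classical
  have := finite_irr (G := K)
  let _ := Fintype.ofFinite (IrrCharacter K)
  obtain ⟨t, D, s, V, hs5, hR, hdg, hyp⟩ := Col.hyp_row h
  have hcard := (H898.J3Cent.base h).2.1
  obtain ⟨m, hm, hm1⟩ := exists_mult T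
  set one : IrrCharacter K := ⟨1, isIrr_one⟩ with hone
  have hperf : commutator K = ⊤ :=
    have := (H898.J3Cent.base h).1
    MTwelve.SmallDegree.commutator_eq_top_of_card (by rw [hcard]; norm_num)
  have hone' : ∀ χ : IrrCharacter K, dg χ = 1 → χ = one := fun χ hχ =>
    have := (H898.J3Cent.base h).1
    Subtype.ext (coe_eq_one_of_dg hperf hχ)
  -- the value of the permutation character
  set f : K → ℕ := fun g => Nat.card (MulAction.fixedBy (K ⧸ T) g) with hf
  have hval : ∀ g : K, ((f g : ℕ) : ℂ) = ∑ χ : IrrCharacter K, (m χ : ℂ) * (χ : K → ℂ) g := hm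
  have hcol : ∀ (i : Fin 8) (g : K), (∀ χ : IrrCharacter K, (χ : K → ℂ) g = V χ i) →
      ((f g : ℕ) : ℤ) = ∑ χ : IrrCharacter K, (m χ : ℤ) * V χ i := by
    intro i g hg
    have h1 := hval g
    rw [Finset.sum_congr rfl fun χ _ => by rw [hg χ]] at h1
    exact_mod_cast h1
  have c0 := hcol 0 1 fun χ => (hR χ).e0
  have c1 := hcol 1 _ fun χ => (hR χ).e1
  have c2 := hcol 2 _ fun χ => (hR χ).e2
  have c3 := hcol 3 _ fun χ => (hR χ).e3
  have c4 := hcol 4 _ fun χ => (hR χ).e4
  have c5 := hcol 5 _ fun χ => (hR χ).e5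
  have c7 : ∑ χ : IrrCharacter K, (m χ : ℤ) * V χ 7 = 0 := by
    refine nat_sq_five (a := (f (D 528) : ℤ) - f (D 1456)) hs5 ?_
    push_cast
    rw [hval, hval, ← Finset.sum_sub_distrib, Finset.sum_mul]
    refine Finset.sum_congr rfl fun χ _ => ?_
    rw [← mul_sub, (hR χ).e7]
    ring
  have hn : f 1 = T.index := by
    show Nat.card (MulAction.fixedBy (K ⧸ T) (1 : K)) = T.index
    rw [Subgroup.index_eq_card, MulAction.fixedBy_one_eq_univ, Nat.card_univ]
  rw [hn] at c0
  -- rows
  have hV1 : V one = fn row1 := by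
    have h1 := hyp.mem
    have h2 : ∀ χ : IrrCharacter K, V χ ∈ (Finset.univ : Finset (IrrCharacter K)).val.map V := fun χ =>
      Multiset.mem_map_of_mem _ (Finset.mem_univ_val χ)
    have h3 := h2 one
    rw [H306.SD.J.rows_eq hyp, Multiset.mem_coe, List.mem_map] at h3
    obtain ⟨l, hl, hl'⟩ := h3
    have h4 : l.getD 0 0 = 1 := by
      have h5 : V one 0 = 1 := by
        rw [hdg]
        have : dg one = 1 := dg_of_eq (by rw [Nat.cast_one]; rfl)
        rw [this]; rfl
      rw [← hl'] at h5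
      exact h5
    have key : ∀ l ∈ H306.SD.J.sol, l.getD 0 0 = 1 → l = row1 := by decide +kernel
    rw [← hl', key l hl h4]
  have hVr : ∀ χ : IrrCharacter K, χ ∈ (Finset.univ.erase one : Finset (IrrCharacter K)) → ∃ l ∈ rows, V χ = fn l := by
    intro χ hχ
    have hne := (Finset.mem_erase.1 hχ).1
    have h2 : V χ ∈ (Finset.univ : Finset (IrrCharacter K)).val.map V :=
      Multiset.mem_map_of_mem _ (Finset.mem_univ_val χ)
    rw [H306.SD.J.rows_eq hyp, Multiset.mem_coe, List.mem_map] at h2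
    obtain ⟨l, hl, hl'⟩ := h2
    have h4 : l.getD 0 0 ≠ 1 := by
      intro h5
      apply hne
      apply hone'
      have h6 : V χ 0 = 1 := by rw [← hl']; exact h5
      rw [hdg] at h6
      exact_mod_cast h6
    have key : ∀ l ∈ H306.SD.J.sol, l.getD 0 0 ≠ 1 → l ∈ rows := by decide +kernel
    exact ⟨l, key l hl h4, hl'.symm⟩
  have hsum : ∀ i : Fin 8, ∑ χ : IrrCharacter K, (m χ : ℤ) * V χ i =
      fn row1 i + ∑ χ ∈ Finset.univ.erase one, (m χ : ℤ) * V χ i := by
    intro i
    rw [← Finset.add_sum_erase _ _ (Finset.mem_univ one), hm1, hV1, Nat.cast_one, one_mul]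
  -- the index
  have hi0 : T.index ≠ 0 := by
    intro h0
    rw [h0, zero_dvd_iff] at hTd
    subst hTd
    revert hd
    decide
  have hi1 : T.index ≠ 1 := fun h1 => hT (Subgroup.index_eq_one.1 h1)
  have hle : T.index ≤ 3876 := by
    have h1 : d ≤ 3876 ∧ 0 < d := by
      have key : ∀ d ∈ dl, d ≤ 3876 ∧ 0 < d := by decide
      exact key d hd
    exact (Nat.le_of_dvd h1.2 hTd).trans h1.1
  have ht := List.all_eq_true.1 tst_all T.index (List.mem_range.2 (by omega))
  by_contra hcon
  push Not at hcon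
  have hgo : go rows (T.index - 1) row1 = true := by
    unfold tst at ht
    simp only [Bool.or_eq_true, Nat.ble_eq, Nat.beq_eq, Bool.not_eq_true'] at ht
    rcases ht with ((((h1 | h1) | h1) | h1) | h1) | h1
    · omega
    · exact absurd h1 hcon.1
    · exact absurd h1 hcon.2
    · exfalso
      have h2 : T.index ∣ 50232960 := by rw [← hcard]; exact T.index_dvd_card
      have h3 : 50232960 % T.index = 0 := Nat.mod_eq_zero_of_dvd h2
      rw [h3] at h1
      exact absurd h1 (by decide)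
    · exfalso
      rw [List.any_eq_false] at h1
      apply h1 d hd
      rw [Nat.mod_eq_zero_of_dvd hTd]
      rfl
    · exact h1
  obtain ⟨w, hw, hwi⟩ := go_sound V m rows (Finset.univ.erase one) (T.index - 1) row1 rfl (by decide +kernel) hVr (by
    have h1 := hsum 0
    rw [← c0] at h1
    have h2 : fn row1 0 = 1 := rfl
    rw [h2] at h1
    rw [Nat.cast_sub (by omega)]
    push_cast
    linarith) hgo
  have hw' : ∀ i : Fin 8, fn w i = ∑ χ : IrrCharacter K, (m χ : ℤ) * V χ i := fun i => by rw [hwi, hsum]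
  have w1 : w.getD 1 0 = f t := (hw' 1).trans c1.symm
  have w2 : w.getD 2 0 = f (D 1) := (hw' 2).trans c2.symm
  have w3 : w.getD 3 0 = f (D 496) := (hw' 3).trans c3.symm
  have w4 : w.getD 4 0 = f (D 97) := (hw' 4).trans c4.symm
  have w5 : w.getD 5 0 = f (D 492) := (hw' 5).trans c5.symm
  have w7 : w.getD 7 0 = 0 := (hw' 7).trans c7
  unfold bad at hw
  simp only [Bool.or_eq_true, decide_eq_true_eq] at hw
  rw [w1, w2, w3, w4, w5, w7] at hw
  omega

end J3

end Cfsg.Agent.H469.S8.Srch
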